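import Mathlib
import Cfsg.Agent.Lib.Helper18.T23.H2.SOTDefs
import Cfsg.Agent.Lib.Helper18.T23.H13.SOTGDefs

/-!
helper7 for helper13's S5666 part (G) market (`notes/S5666_G_leaves.lean`): the leaves
S0 `zero_mem_SsetJ`, S1' `inM_tvJ_conj`, S2' `tvJ_smul`, S4' `inM_tvJ_add`, `inM_tvJ_neg`
(general section, exact signatures).
-/

set_option autoImplicit false
set_option linter.unusedSectionVars false
set_option linter.unusedVariables false

namespace Cfsg.Agent.Lib.Helper18.T23.H7.SOTGLeaf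
open Matrix
open Cfsg.Agent.Lib.Helper25.Tens Cfsg.Agent.Lib.Helper25.SpT Cfsg.Agent.Lib.Helper19.OSub
open Cfsg.Agent.Lib.Helper18.T23.H2.SOT Cfsg.Agent.Lib.Helper18.T23.H13.SOTG
open scoped Kronecker

section general
variable {ι : Type} [Fintype ι] [DecidableEq ι] {F : Type*} [Field F] {J : Matrix ι ι F}
  {M : Subgroup (GL ι F)}

/-- `tvJ J 0 c = 1` -/
theorem tvJ_zero (c : F) : tvJ J (0 : ι → F) c = 1 := by
  apply Matrix.mulVec_injective
  funext v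
  rw [tvJ_mulVec, smul_zero, add_zero, Matrix.one_mulVec]

/-- (S0) -/
theorem zero_mem_SsetJ : (0 : ι → F) ∈ SsetJ J M := by
  intro c
  rw [tvJ_zero]
  exact InM_one M

/-- isometries: `f(g⁻¹ v, u) = f(v, g u)` -/
theorem fJ_inv_left {g : GL ι F} (hg : g ∈ SpJ J) (v u : ι → F) :
    fJ J (mv g⁻¹ v) u = fJ J v (mv g u) := by
  have h1 := (mem_SpJ.1 hg) (mv g⁻¹ v) u
  rw [mv_mv_inv] at h1
  exact h1.symm

/-- (S1') conjugation -/
theorem inM_tvJ_conj (hM : M ≤ SpJ J) {g : GL ι F} (hg : g ∈ M) {u : ι → F} {c : F}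
    (hu : InM M (tvJ J u c)) : InM M (tvJ J (mv g u) c) := by
  obtain ⟨t, ht, htv⟩ := mv_of_inM_tvJ hu
  refine inM_tvJ_of_mv (g := g * t * g⁻¹) (M.mul_mem (M.mul_mem hg ht) (M.inv_mem hg)) ?_
  intro v
  rw [mv_mul, mv_mul, htv, mv_add, mv_smul, mv_mv_inv, fJ_inv_left (hM hg)]

/-- (S2') -/
theorem tvJ_smul (u : ι → F) (t c : F) : tvJ J (t • u) c = tvJ J u (t ^ 2 * c) := by
  apply Matrix.mulVec_injective
  funext v
  rw [tvJ_mulVec, tvJ_mulVec, fJ_smul_right, smul_smul]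
  congr 2
  ring

/-- (S4') -/
theorem inM_tvJ_add (h : AltCtx J) {u : ι → F} {c c' : F} (hc : InM M (tvJ J u c))
    (hc' : InM M (tvJ J u c')) : InM M (tvJ J u (c + c')) := by
  obtain ⟨s, hs, hsv⟩ := mv_of_inM_tvJ hc
  obtain ⟨t, ht, htv⟩ := mv_of_inM_tvJ hc'
  refine inM_tvJ_of_mv (g := s * t) (M.mul_mem hs ht) ?_
  intro v
  rw [mv_mul, htv, hsv, fJ_add_left, fJ_smul_left, h.alt, mul_zero, add_zero, add_assoc,
    ← add_smul]
  congr 2
  ring

theorem inM_tvJ_neg (h : AltCtx J) {u : ι → F} {c : F} (hc : InM M (tvJ J u c)) :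
    InM M (tvJ J u (-c)) := by
  obtain ⟨s, hs, hsv⟩ := mv_of_inM_tvJ hc
  refine inM_tvJ_of_mv (g := s⁻¹) (M.inv_mem hs) ?_
  intro v
  apply mv_injective s
  rw [mv_mv_inv, hsv, fJ_add_left, fJ_smul_left, h.alt, mul_zero, add_zero, add_assoc,
    ← add_smul]
  have : -c * fJ J v u + c * fJ J v u = 0 := by ring
  rw [this, zero_smul, add_zero]

end general

end Cfsg.Agent.Lib.Helper18.T23.H7.SOTGLeaf
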