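import Mathlib
import Cfsg.Prelude.Def_ClassicalGeometry
import Cfsg.Prelude.Def_GeometricClasses
import Cfsg.Agent.Lib.Helper18.T23.H2.SOTDefs
import Cfsg.Agent.Lib.Helper13.SpTSB
import Cfsg.Agent.Lib.Helper9.TensA
import Cfsg.Agent.Lib.Helper15.TT

/-!
S5666 part (T) (`frozen_of_model`): transport of the frozen statement (`Sp_{n₁} ⊗ O_{n₂}` tensor
product subgroup, reindexed by `e` and conjugated by `P`, inside `spGL m F`) to helper2's model
`SOTDefs` on `Fin n₁ × Fin n₂` (symplectic factor standard, symmetric factor with Gram matrix `G`),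
including the properness `KG ⊓ SpV G < SpV G` of the model.
-/

set_option autoImplicit false
set_option linter.unusedSectionVars false
set_option linter.unusedVariables false

namespace Cfsg.Agent.Lib.Helper18.T23.H7.SOTLeaf
open Matrix
open Cfsg.Agent.Lib.Helper25.Tens Cfsg.Agent.Lib.Helper25.SpT Cfsg.Agent.Lib.Helper19.OSub
open Cfsg.Agent.Lib.Helper18.T23.H2.SOT
open Cfsg.Agent.Lib.Helper15.TensLeaf
open scoped Kronecker

variable {F : Type*} [Field F]

/-! ### bilinear forms and Gram matrices -/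

/-- a bilinear form is given by its Gram matrix -/
lemma bil_eq_dot {κ : Type} [Fintype κ] [DecidableEq κ] (f : (κ → F) → (κ → F) → F)
    (hf : Cfsg.Geo.IsBilinearForm f) (x y : κ → F) :
    f x y = x ⬝ᵥ (Cfsg.Geo.gramMatrix f *ᵥ y) := by
  let γ : LinearMap.BilinForm F (κ → F) :=
    LinearMap.mk₂ F f hf.add_left hf.smul_left hf.add_right hf.smul_right
  have h1 : f x y = γ x y := rfl
  have h2 : LinearMap.BilinForm.toMatrix' γ = Cfsg.Geo.gramMatrix f := by
    ext i j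
    rw [LinearMap.BilinForm.toMatrix'_apply]
    rfl
  rw [h1, ← h2, ← Matrix.toBilin'_apply', Matrix.toBilin'_toMatrix']

lemma formOfGram_id {κ : Type} [Fintype κ] (K : Matrix κ κ F) (v w : κ → F) :
    Cfsg.Geo.formOfGram id K v w = v ⬝ᵥ (K *ᵥ w) := by
  simp only [Cfsg.Geo.formOfGram, dotProduct, Matrix.mulVec, id, Finset.mul_sum, mul_assoc]

lemma pt_dot_pt {a b : ℕ} (x u : Fin a → F) (y w : Fin b → F) :
    pt x y ⬝ᵥ pt u w = (x ⬝ᵥ u) * (y ⬝ᵥ w) := by
  simp only [dotProduct, pt, Fintype.sum_prod_type]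
  rw [Finset.sum_mul_sum]
  apply Finset.sum_congr rfl
  intro i _
  apply Finset.sum_congr rfl
  intro l _
  ring

/-- induction over sums of pure tensors -/
theorem pt_ind {a b : ℕ} {p : (Idx a b → F) → Prop} (h0 : p 0)
    (hadd : ∀ v w, p v → p w → p (v + w)) (hpt : ∀ (x : Fin a → F) (y : Fin b → F), p (pt x y)) :
    ∀ v, p v := by
  intro v
  rw [eq_sum_pt v]
  apply Finset.sum_induction _ p hadd h0
  intro i _
  apply Finset.sum_induction _ p hadd h0
  intro l _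
  rw [← pt_smul_left]
  exact hpt _ _

lemma fV_zero_left {a b : ℕ} (G : Matrix (Fin b) (Fin b) F) (w : Idx a b → F) :
    fV G (0 : Idx a b → F) w = 0 := by
  simp [fV]

lemma fV_zero_right {a b : ℕ} (G : Matrix (Fin b) (Fin b) F) (v : Idx a b → F) :
    fV G v (0 : Idx a b → F) = 0 := by
  simp [fV]

/-- in a symplectic basis of the first factor the tensor Gram form is the model form -/
theorem form_kel {a b : ℕ} (f₁ : (Fin a → F) → (Fin a → F) → F)
    (f₂ : (Fin b → F) → (Fin b → F) → F) (hf₁ : Cfsg.Geo.IsBilinearForm f₁)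
    (hf₂ : Cfsg.Geo.IsBilinearForm f₂) (P₁ : GL (Fin a) F)
    (hP₁ : ∀ x x' : Fin a → F, f₁ ((P₁ : Matrix (Fin a) (Fin a) F) *ᵥ x)
      ((P₁ : Matrix (Fin a) (Fin a) F) *ᵥ x') = sf x x')
    (v w : Idx a b → F) :
    Cfsg.Geo.formOfGram id (Cfsg.Geo.gramMatrix f₁ ⊗ₖ Cfsg.Geo.gramMatrix f₂)
      (mv (kel P₁ (1 : GL (Fin b) F)) v) (mv (kel P₁ (1 : GL (Fin b) F)) w) =
      fV (Cfsg.Geo.gramMatrix f₂) v w := by
  rw [formOfGram_id]
  revert w
  revert v
  apply pt_ind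
  · intro w
    rw [mv_zero, zero_dotProduct, fV_zero_left]
  · intro v v' hv1 hv2 w
    rw [mv_add, add_dotProduct, hv1, hv2, fV_add_left]
  · intro x y
    apply pt_ind
    · rw [mv_zero, Matrix.mulVec_zero, dotProduct_zero, fV_zero_right]
    · intro w w' hw1 hw2
      rw [mv_add, Matrix.mulVec_add, dotProduct_add, hw1, hw2, fV_add_right]
    · intro x' y'
      dsimp only [mv]
      rw [kel_mulVec_pt, kel_mulVec_pt, kron_mulVec_pt, pt_dot_pt, ← bil_eq_dot f₁ hf₁,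
        ← bil_eq_dot f₂ hf₂, hP₁, Units.val_one, Matrix.one_mulVec, Matrix.one_mulVec, fV_pt,
        bil_eq_dot f₂ hf₂]
      rfl

/-! ### the transporting isomorphism, generic index type -/

/-- reindexed matrices act on reindexed vectors -/
lemma glReindex_mulVec' {κ ι : Type} [Fintype κ] [DecidableEq κ] [Fintype ι] [DecidableEq ι]
    (e : ι ≃ κ) (g : GL κ F) (v : κ → F) :
    ((Cfsg.Geo.glReindex (F := F) e.symm g : GL ι F) : Matrix ι ι F) *ᵥ (v ∘ e) =
      ((g : Matrix κ κ F) *ᵥ v) ∘ e := by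
  change (Matrix.reindexAlgEquiv F F e.symm (g : Matrix κ κ F)) *ᵥ (v ∘ e) = _
  rw [Matrix.coe_reindexAlgEquiv, Matrix.reindex_apply, Matrix.submatrix_mulVec_equiv]
  simp [Function.comp_assoc]

section main
variable {ι : Type} [Fintype ι] [DecidableEq ι] {n₁ n₂ : ℕ}

/-- the isomorphism `conj R ≫ glReindex e.symm ≫ conj P` -/
def sphi (e : ι ≃ Fin n₁ × Fin n₂) (P : GL ι F) (R : GL (Idx n₁ n₂) F) :
    GL (Idx n₁ n₂) F ≃* GL ι F :=
  (MulAut.conj R).trans ((Cfsg.Geo.glReindex (F := F) e.symm).trans (MulAut.conj P))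

/-- the similarity `L x = P ((R x) ∘ e)` -/
def sL (e : ι ≃ Fin n₁ × Fin n₂) (P : GL ι F) (R : GL (Idx n₁ n₂) F)
    (x : Idx n₁ n₂ → F) : ι → F :=
  (P : Matrix ι ι F) *ᵥ ((((R : Matrix (Idx n₁ n₂) (Idx n₁ n₂) F)) *ᵥ x) ∘ e)

lemma gl_inv_mulVec'' {κ : Type} [Fintype κ] [DecidableEq κ] (m : GL κ F) (v : κ → F) :
    ((m⁻¹ : GL κ F) : Matrix κ κ F) *ᵥ ((m : Matrix κ κ F) *ᵥ v) = v := by
  rw [Matrix.mulVec_mulVec, ← Units.val_mul, inv_mul_cancel, Units.val_one, Matrix.one_mulVec]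

lemma gl_mulVec_inv'' {κ : Type} [Fintype κ] [DecidableEq κ] (m : GL κ F) (v : κ → F) :
    (m : Matrix κ κ F) *ᵥ (((m⁻¹ : GL κ F) : Matrix κ κ F) *ᵥ v) = v := by
  rw [Matrix.mulVec_mulVec, ← Units.val_mul, mul_inv_cancel, Units.val_one, Matrix.one_mulVec]

lemma sphi_mulVec (e : ι ≃ Fin n₁ × Fin n₂) (P : GL ι F) (R : GL (Idx n₁ n₂) F)
    (g : GL (Idx n₁ n₂) F) (x : Idx n₁ n₂ → F) :
    ((sphi e P R g : GL ι F) : Matrix ι ι F) *ᵥ sL e P R x =
      sL e P R ((g : Matrix (Idx n₁ n₂) (Idx n₁ n₂) F) *ᵥ x) := by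
  have h1 : sphi e P R g = P * Cfsg.Geo.glReindex (F := F) e.symm (R * g * R⁻¹) * P⁻¹ := rfl
  rw [h1]
  unfold sL
  rw [Units.val_mul, Units.val_mul, ← Matrix.mulVec_mulVec, ← Matrix.mulVec_mulVec,
    gl_inv_mulVec'', glReindex_mulVec', Units.val_mul, Units.val_mul, ← Matrix.mulVec_mulVec,
    ← Matrix.mulVec_mulVec, gl_inv_mulVec'']

lemma sL_surjective (e : ι ≃ Fin n₁ × Fin n₂) (P : GL ι F) (R : GL (Idx n₁ n₂) F)
    (u : ι → F) : ∃ x, sL e P R x = u := by
  refine ⟨((R⁻¹ : GL (Idx n₁ n₂) F) : Matrix (Idx n₁ n₂) (Idx n₁ n₂) F) *ᵥ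
    ((((P⁻¹ : GL ι F) : Matrix ι ι F) *ᵥ u) ∘ e.symm), ?_⟩
  unfold sL
  rw [gl_mulVec_inv'']
  have : ((((P⁻¹ : GL ι F) : Matrix ι ι F) *ᵥ u) ∘ e.symm) ∘ e =
      ((P⁻¹ : GL ι F) : Matrix ι ι F) *ᵥ u := by
    ext i
    simp
  rw [this, gl_mulVec_inv'']

/-- `φ` maps the isometry group of the model onto the isometry group of `f` -/
theorem map_SpV (e : ι ≃ Fin n₁ × Fin n₂) (P : GL ι F) (R : GL (Idx n₁ n₂) F)
    (G : Matrix (Fin n₂) (Fin n₂) F) (f : (ι → F) → (ι → F) → F)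
    (c : F) (hc : c ≠ 0)
    (hL : ∀ x y : Idx n₁ n₂ → F, f (sL e P R x) (sL e P R y) = c * fV G x y) :
    (SpV G).map (sphi e P R).toMonoidHom = Cfsg.preserving (Cfsg.glToMat ι F) f := by
  have key : ∀ g : GL (Idx n₁ n₂) F,
      g ∈ SpV G ↔ sphi e P R g ∈ Cfsg.preserving (Cfsg.glToMat ι F) f := by
    intro g
    constructor
    · intro hg u v
      obtain ⟨x, rfl⟩ := sL_surjective e P R u
      obtain ⟨y, rfl⟩ := sL_surjective e P R v
      change f (((sphi e P R g : GL ι F) : Matrix ι ι F) *ᵥ _)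
        (((sphi e P R g : GL ι F) : Matrix ι ι F) *ᵥ _) = _
      rw [sphi_mulVec, sphi_mulVec, hL, hL]
      congr 1
      exact hg x y
    · intro hg x y
      have h1 := hg (sL e P R x) (sL e P R y)
      change f (((sphi e P R g : GL ι F) : Matrix ι ι F) *ᵥ _)
        (((sphi e P R g : GL ι F) : Matrix ι ι F) *ᵥ _) = _ at h1
      rw [sphi_mulVec, sphi_mulVec, hL, hL] at h1
      exact mul_left_cancel₀ hc h1
  ext x
  rw [Subgroup.mem_map]
  constructor
  · rintro ⟨g, hg, rfl⟩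
    exact (key g).mp hg
  · intro hx
    refine ⟨(sphi e P R).symm x, ?_, by simp⟩
    rw [key, MulEquiv.apply_symm_apply]
    exact hx

theorem map_KG' (e : ι ≃ Fin n₁ × Fin n₂) (P : GL ι F) (R : GL (Idx n₁ n₂) F)
    (hR : R ∈ KG n₁ n₂ F) :
    (KG n₁ n₂ F).map (sphi e P R).toMonoidHom = Cfsg.Geo.tensorProductSubgroup n₁ n₂ e P := by
  have h1 : (KG n₁ n₂ F).map (MulAut.conj R).toMonoidHom = KG n₁ n₂ F := by
    ext x
    rw [Subgroup.mem_map]
    constructor
    · rintro ⟨y, hy, rfl⟩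
      change R * y * R⁻¹ ∈ KG n₁ n₂ F
      exact (KG n₁ n₂ F).mul_mem ((KG n₁ n₂ F).mul_mem hR hy) ((KG n₁ n₂ F).inv_mem hR)
    · intro hx
      refine ⟨R⁻¹ * x * R, (KG n₁ n₂ F).mul_mem ((KG n₁ n₂ F).mul_mem
        ((KG n₁ n₂ F).inv_mem hR) hx) hR, ?_⟩
      change R * (R⁻¹ * x * R) * R⁻¹ = x
      group
  have h2 : (KG n₁ n₂ F).map (sphi e P R).toMonoidHom =
      ((KG n₁ n₂ F).map (MulAut.conj R).toMonoidHom).map
        ((Cfsg.Geo.glReindex (F := F) e.symm).trans (MulAut.conj P)).toMonoidHom := by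
    rw [Subgroup.map_map]
    rfl
  rw [h2, h1]
  unfold Cfsg.Geo.tensorProductSubgroup
  rw [Subgroup.map_map]
  rfl

end main

/-! ### properness of the model -/

section proper
variable {a b : ℕ}

/-- the model form is skew-symmetric -/
theorem fV_skew (G : Matrix (Fin b) (Fin b) F) (hG : Gᵀ = G) (v w : Idx a b → F) :
    fV G v w = - fV G w v := by
  revert w
  revert v
  apply pt_ind
  · intro w
    rw [fV_zero_left, fV_zero_right, neg_zero]
  · intro v v' h1 h2 w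
    rw [fV_add_left, fV_add_right, h1, h2]
    ring
  · intro x y
    apply pt_ind
    · rw [fV_zero_left, fV_zero_right, neg_zero]
    · intro w w' h1 h2
      rw [fV_add_left, fV_add_right, h1, h2]
      ring
    · intro x' y'
      rw [fV_pt, fV_pt, sf_skew x x', fB_comm G hG y y']
      ring

lemma fV_pt_self (G : Matrix (Fin b) (Fin b) F) (x : Fin a → F) (z : Fin b → F) :
    fV G (pt x z) (pt x z) = 0 := by
  rw [fV_pt, sf_self, zero_mul]

lemma tvMat_mul_neg (G : Matrix (Fin b) (Fin b) F) (u : Idx a b → F) (hu : fV G u u = 0) (c : F) :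
    tvMat G u c * tvMat G u (-c) = 1 := by
  apply Matrix.toLin'.injective
  apply LinearMap.ext
  intro v
  rw [Matrix.toLin'_apply, ← Matrix.mulVec_mulVec, tvMat_mulVec, tvMat_mulVec, fV_add_left,
    fV_smul_left, hu, Matrix.toLin'_apply, Matrix.one_mulVec]
  module

/-- the transvection with centre `u`, `fV u u = 0`, as a unit -/
noncomputable def tvGL (G : Matrix (Fin b) (Fin b) F) (u : Idx a b → F) (hu : fV G u u = 0)
    (c : F) : GL (Idx a b) F :=
  ⟨tvMat G u c, tvMat G u (-c), tvMat_mul_neg G u hu c, by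
    have := tvMat_mul_neg G u hu (-c)
    rwa [neg_neg] at this⟩

lemma mv_tvGL (G : Matrix (Fin b) (Fin b) F) (u : Idx a b → F) (hu : fV G u u = 0) (c : F)
    (v : Idx a b → F) : mv (tvGL G u hu c) v = v + (c * fV G v u) • u :=
  tvMat_mulVec G u c v

theorem tvGL_mem_SpV (G : Matrix (Fin b) (Fin b) F) (hG : Gᵀ = G) (u : Idx a b → F)
    (hu : fV G u u = 0) (c : F) : tvGL G u hu c ∈ SpV G := by
  rw [mem_SpV]
  intro v w
  rw [mv_tvGL, mv_tvGL, fV_add_left, fV_add_right, fV_add_right, fV_smul_left, fV_smul_left,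
    fV_smul_right, fV_smul_right, hu, fV_skew G hG u w]
  ring

lemma eq_zero_of_rank_zero {κ : Type} [Fintype κ] [DecidableEq κ] (M : Matrix κ κ F)
    (h0 : M.rank = 0) : M = 0 := by
  unfold Matrix.rank at h0
  have h1 : LinearMap.range M.mulVecLin = ⊥ := Submodule.finrank_eq_zero.mp h0
  have h2 : M.mulVecLin = 0 := LinearMap.range_eq_bot.mp h1
  ext i j
  have := congrFun (LinearMap.congr_fun h2 (Pi.single j 1)) i
  simpa using this

/-- a Kronecker product of rank-distance at most one from the identity is the identity -/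
theorem kron_eq_one_of_rank_le_one (ha : 2 ≤ a) (hb : 2 ≤ b) (α : GL (Fin a) F) (β : GL (Fin b) F)
    (h : ((α : Matrix (Fin a) (Fin a) F) ⊗ₖ (β : Matrix (Fin b) (Fin b) F) -
      (1 : Matrix (Idx a b) (Idx a b) F)).rank ≤ 1) :
    (α : Matrix (Fin a) (Fin a) F) ⊗ₖ (β : Matrix (Fin b) (Fin b) F) =
      (1 : Matrix (Idx a b) (Idx a b) F) := by
  have hB : (β : Matrix (Fin b) (Fin b) F).det ≠ 0 :=
    ((Matrix.isUnit_iff_isUnit_det _).mp β.isUnit).ne_zero
  have h1 : (1 : Matrix (Idx a b) (Idx a b) F) = (1 : F) • 1 := (one_smul _ _).symm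
  by_cases hA : ∃ s : F, (α : Matrix (Fin a) (Fin a) F) = s • 1
  · obtain ⟨s, hs⟩ := hA
    rw [h1, hs, Cfsg.Agent.Lib.Helper9.TensA.scalar_kron_sub,
      Cfsg.Agent.Lib.Helper9.TensA.rank_one_kron] at h
    have hr : (s • (β : Matrix (Fin b) (Fin b) F) - (1 : F) • 1).rank = 0 := by
      by_contra hne
      have : 1 ≤ (s • (β : Matrix (Fin b) (Fin b) F) - (1 : F) • 1).rank := Nat.one_le_iff_ne_zero.mpr hne
      have : a * 1 ≤ a * (s • (β : Matrix (Fin b) (Fin b) F) - (1 : F) • 1).rank :=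
        Nat.mul_le_mul_left a this
      omega
    have hz := eq_zero_of_rank_zero _ hr
    have h2 : (s • (1 : Matrix (Fin a) (Fin a) F)) ⊗ₖ (β : Matrix (Fin b) (Fin b) F) -
        (1 : F) • (1 : Matrix (Idx a b) (Idx a b) F) = 0 := by
      rw [Cfsg.Agent.Lib.Helper9.TensA.scalar_kron_sub, hz]
      ext p p'
      simp [Matrix.kroneckerMap_apply]
    rw [hs]
    rw [one_smul] at h2
    exact sub_eq_zero.mp h2
  · push Not at hA
    have := Cfsg.Agent.Lib.Helper9.TensA.rank_ge_of_nonscalar _ _ hA hB 1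
    rw [← h1] at this
    omega

/-- the Kronecker group is proper in the isometry group of the model -/
theorem KG_SpV_lt [Fintype F] {G : Matrix (Fin b) (Fin b) F} (h : Ctx a b G) :
    KG a b F ⊓ SpV G < SpV G := by
  classical
  refine lt_of_le_of_ne inf_le_right ?_
  intro heq
  have ha := h.ha
  have hb := h.hb
  let i0 : Fin a := ⟨0, by omega⟩
  let l0 : Fin b := ⟨0, by omega⟩
  set x : Fin a → F := Pi.single i0 1 with hx
  set z : Fin b → F := Pi.single l0 1 with hz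
  have hx0 : x ≠ 0 := by
    intro h0
    have := congrFun h0 i0
    rw [hx, Pi.single_eq_same, Pi.zero_apply] at this
    exact one_ne_zero this
  have hz0 : z ≠ 0 := by
    intro h0
    have := congrFun h0 l0
    rw [hz, Pi.single_eq_same, Pi.zero_apply] at this
    exact one_ne_zero this
  set u : Idx a b → F := pt x z with hu
  have huu : fV G u u = 0 := fV_pt_self G x z
  have hu0 : u ≠ 0 := by
    intro h0
    have := congrFun h0 (i0, l0)
    simp [hu, pt, hx, hz] at this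
  set g : GL (Idx a b) F := tvGL G u huu 1 with hg
  have hgS : g ∈ SpV G := tvGL_mem_SpV G h.symm u huu 1
  have hgK : g ∈ KG a b F := by
    rw [← heq] at hgS
    exact hgS.1
  obtain ⟨α, β, hαβ⟩ := (mem_KG_iff _).1 hgK
  -- rank of g - 1
  have hrk : ((g : Matrix (Idx a b) (Idx a b) F) - 1).rank ≤ 1 := by
    have : (g : Matrix (Idx a b) (Idx a b) F) - 1 =
        Matrix.vecMulVec u ((Jm a ⊗ₖ G : Matrix (Idx a b) (Idx a b) F) *ᵥ u) := by
      change tvMat G u 1 - 1 = _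
      unfold tvMat
      rw [one_smul, add_sub_cancel_left]
    rw [this]
    exact Matrix.rank_vecMulVec_le _ _
  rw [hαβ] at hrk
  have hone := kron_eq_one_of_rank_le_one (by omega) (by omega) α β hrk
  rw [← hαβ] at hone
  -- but g moves some vector
  obtain ⟨x', hx'⟩ := exists_sf_ne_zero h.ea hx0
  have hGz : G *ᵥ z ≠ 0 := by
    intro h0
    have h1 : G.det = 0 := Matrix.exists_mulVec_eq_zero_iff.mp ⟨z, hz0, h0⟩
    exact h.nd h1
  obtain ⟨l, hl⟩ := Function.ne_iff.mp hGz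
  set v : Idx a b → F := pt x' (Pi.single l 1) with hv
  have hfv : fV G v u ≠ 0 := by
    rw [hv, hu, fV_pt]
    apply mul_ne_zero
    · rw [sf_skew]
      exact neg_ne_zero.2 hx'
    · unfold fB
      rw [single_dotProduct, one_mul]
      exact hl
  have hmv : mv g v = v := by
    change (g : Matrix (Idx a b) (Idx a b) F) *ᵥ v = v
    rw [hone, Matrix.one_mulVec]
  rw [hg, mv_tvGL, one_mul] at hmv
  have h3 : fV G v u • u = 0 := by
    have := congrArg (fun t => t - v) hmv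
    simpa using this
  rcases smul_eq_zero.mp h3 with h4 | h4
  · exact hfv h4
  · exact hu0 h4

end proper

/-! ### the transport -/

/-- PART (T): transport of the frozen statement of S5666 to the model -/
theorem frozen_of_model {F : Type*} [Field F] [Fintype F]
    (m : ℕ) (hm : 1 ≤ m) (hodd : Odd (Fintype.card F)) (n₁ n₂ : ℕ) (hn₂ : 3 ≤ n₂)
    (hmodel : ∀ (G : Matrix (Fin n₂) (Fin n₂) F) (M : Subgroup (GL (Idx n₁ n₂) F)),
      MCtx n₁ n₂ G M → M = KG n₁ n₂ F ⊓ SpV G ∨ M = SpV G)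
    (hex : ¬ (Fintype.card F = 3 ∧ n₂ = 3)) (e : (Fin m ⊕ Fin m) ≃ Fin n₁ × Fin n₂)
    (P : Matrix.GeneralLinearGroup (Fin m ⊕ Fin m) F)
    (f₁ : (Fin n₁ → F) → (Fin n₁ → F) → F) (f₂ : (Fin n₂ → F) → (Fin n₂ → F) → F)
    (hf₁ : Cfsg.Geo.IsSymplecticForm f₁) (hf₂ : Cfsg.Geo.IsSymmetricForm f₂)
    (hT : Cfsg.Geo.IsTensorFormStructure id (Cfsg.sympForm m F) f₁ f₂ e P) :
    Cfsg.Geo.IsMaximalIn (Cfsg.spGL m F)
      (Cfsg.Geo.tensorProductSubgroup n₁ n₂ e P ⊓ Cfsg.spGL m F) := by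
  classical
  obtain ⟨hev, P₁, hP₁⟩ := Cfsg.Agent.Lib.Helper13.SpTLeaf.exists_symp_basis f₁ hf₁
  obtain ⟨c, hc, hTc⟩ := hT
  set G : Matrix (Fin n₂) (Fin n₂) F := Cfsg.Geo.gramMatrix f₂ with hG
  have hcard : 2 * m = n₁ * n₂ := by
    have := Fintype.card_congr e
    simp only [Fintype.card_sum, Fintype.card_fin, Fintype.card_prod] at this
    omega
  have hn1 : n₁ ≠ 0 := by
    rintro rfl
    omega
  have h2 : (2 : F) ≠ 0 := by
    intro h
    have : CharP F 2 := CharTwo.of_one_ne_zero_of_two_eq_zero one_ne_zero h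
    obtain ⟨k, -, hk⟩ := FiniteField.card F 2
    rw [hk] at hodd
    have hev2 : Even (2 ^ (k : ℕ)) := (Nat.even_pow.2 ⟨even_two, k.ne_zero⟩)
    exact (Nat.not_even_iff_odd.2 hodd) hev2
  have hsymm : Gᵀ = G := by
    ext i j
    rw [Matrix.transpose_apply]
    exact hf₂.symm _ _
  have hnd : G.det ≠ 0 := by
    intro h0
    obtain ⟨v, hv0, hv⟩ := Matrix.exists_mulVec_eq_zero_iff.mpr h0
    obtain ⟨⟨x, hx⟩, -⟩ := hf₂.nondegenerate v hv0
    apply hx
    rw [bil_eq_dot f₂ hf₂.bilinear, hv, dotProduct_zero]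
  have ctx : Ctx n₁ n₂ G :=
    { ea := hev
      ha := by
        obtain ⟨k, hk⟩ := hev
        omega
      hb := hn₂
      symm := hsymm
      nd := hnd
      two := h2
      hex := hex }
  set R : GL (Idx n₁ n₂) F := kel P₁ (1 : GL (Fin n₂) F) with hR
  have hL : ∀ x y : Idx n₁ n₂ → F,
      Cfsg.sympForm m F (sL e P R x) (sL e P R y) = c * fV G x y := by
    intro x y
    unfold sL
    rw [hTc]
    congr 1
    exact form_kel f₁ f₂ hf₁.bilinear hf₂.bilinear P₁ hP₁ x y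
  have hmax : Cfsg.Geo.IsMaximalIn (SpV G) (KG n₁ n₂ F ⊓ SpV G) :=
    ⟨KG_SpV_lt ctx, fun M h1 h2 => hmodel G M { toCtx := ctx, le := h1, le_sp := h2 }⟩
  have key := tt_isMaximalIn_map (sphi e P R) hmax
  rw [Subgroup.map_inf _ _ _ (sphi e P R).injective, map_KG' e P R (kel_mem_KG _ _),
    map_SpV e P R G (Cfsg.sympForm m F) c hc hL] at key
  exact key

end Cfsg.Agent.Lib.Helper18.T23.H7.SOTLeaf
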